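import Mathlib
import Cfsg.Agent.Lib.Semisimple.Basic
import Cfsg.Agent.Lib.SL2.MaxCases

/-!
When is a semisimple element of `SL_n(F)` conjugate into the subfield subgroup: the eigenvalue criterion.
-/

set_option autoImplicit false

namespace Cfsg.Agent.Lib.SubfieldElem

open Polynomial Matrix
open scoped Matrix

variable {F : Type*} [Field F]

local notation "K" => AlgebraicClosure F
local notation "ι" => algebraMap F (AlgebraicClosure F)

/-- the eigenvalues, with multiplicity -/
noncomputable def eigs {n : ℕ} (A : Matrix (Fin n) (Fin n) F) : Multiset K := (A.map ι).charpoly.roots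

lemma eigs_prod {n : ℕ} (A : Matrix (Fin n) (Fin n) F) : (eigs A).prod = ι A.det := by
  rw [eigs, ← Matrix.det_eq_prod_roots_charpoly]
  exact (RingHom.map_det ι A).symm

lemma eigs_card {n : ℕ} (A : Matrix (Fin n) (Fin n) F) : Multiset.card (eigs A) = n := by
  rw [eigs, ← (IsAlgClosed.splits _).natDegree_eq_card_roots, Matrix.charpoly_natDegree_eq_dim,
    Fintype.card_fin]

lemma charpoly_eigs {n : ℕ} (A : Matrix (Fin n) (Fin n) F) :
    A.charpoly.map ι = ((eigs A).map fun w => X - C w).prod := by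
  rw [← Matrix.charpoly_map, eigs]
  exact (IsAlgClosed.splits _).eq_prod_roots_of_monic (Matrix.charpoly_monic _)

lemma eigs_smul {n : ℕ} (A : Matrix (Fin n) (Fin n) F) {c : F} (hc : c ≠ 0) :
    eigs (c • A) = (eigs A).map fun w => ι c * w := by
  have key : ((c • A).map ι).charpoly = ((eigs A).map fun w => X - C (ι c * w)).prod := by
    refine Polynomial.funext fun x => ?_
    have hc' : ι c ≠ 0 := by simpa using hc
    have h1 : (c • A).map ι = ι c • A.map ι := by
      ext i j
      simp [Matrix.smul_apply]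
    have h2 : Matrix.scalar (Fin n) x - ι c • A.map ι = ι c • (Matrix.scalar (Fin n) (x / ι c) - A.map ι) := by
      rw [smul_sub]
      congr 1
      ext i j
      by_cases h : i = j <;> simp [h, mul_div_cancel₀ _ hc']
    rw [h1, Matrix.eval_charpoly, h2, Matrix.det_smul, Fintype.card_fin, ← Matrix.eval_charpoly,
      Matrix.charpoly_map, charpoly_eigs, eval_multiset_prod, eval_multiset_prod, Multiset.map_map,
      Multiset.map_map, show (ι c) ^ n = ((eigs A).map fun _ => ι c).prod by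
        rw [Multiset.map_const', Multiset.prod_replicate, eigs_card], ← Multiset.prod_map_mul]
    refine congrArg _ (Multiset.map_congr rfl fun w _ => ?_)
    simp [mul_sub, mul_div_cancel₀ _ hc']
  have h3 := roots_multiset_prod_X_sub_C ((eigs A).map fun w => ι c * w)
  rw [Multiset.map_map] at h3
  rw [eigs, key]
  exact h3

lemma eigs_conj {n : ℕ} (P : GL (Fin n) F) (A : Matrix (Fin n) (Fin n) F) :
    eigs ((P : Matrix (Fin n) (Fin n) F) * A * ((P⁻¹ : GL (Fin n) F) : Matrix (Fin n) (Fin n) F)) = eigs A := by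
  rw [eigs, eigs, Matrix.charpoly_map, Matrix.charpoly_map, Matrix.coe_units_inv, Matrix.charpoly_units_conj]

lemma eigs_scalar {n : ℕ} (a : F) : eigs (a • (1 : Matrix (Fin n) (Fin n) F)) = Multiset.replicate n (ι a) := by
  rw [eigs, Matrix.charpoly_map, Matrix.smul_one_eq_diagonal, Matrix.charpoly_diagonal, Finset.prod_const,
    Finset.card_univ, Fintype.card_fin, Polynomial.map_pow, Polynomial.map_sub, map_X, map_C, roots_pow,
    roots_X_sub_C, Multiset.nsmul_singleton]

variable [Fintype F] (p : ℕ) [Fact p.Prime] [CharP F p]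

set_option linter.unusedSectionVars false

lemma mem_range_of_pow {a : K} (h : a ^ Fintype.card F = a) : a ∈ Set.range (ι) := by
  classical
  haveI : Fintype (ι).fieldRange := Fintype.ofEquiv F (ι).rangeRestrictFieldEquiv.toEquiv
  have hc : Fintype.card (ι).fieldRange = Fintype.card F :=
    (Fintype.card_congr (ι).rangeRestrictFieldEquiv.toEquiv).symm
  exact Cfsg.Agent.Lib.SL2.mem_subfield_of_pow (L := (ι).fieldRange) (a := a) (by rw [hc]; exact h)

lemma pow_card_iota (a : F) : (ι a) ^ Fintype.card F = ι a := by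
  rw [← map_pow, FiniteField.pow_card]

include p

/-- Frobenius powers on the algebraic closure -/
lemma exists_frob {m : ℕ} : ∃ τ : K →+* K, ∀ x, τ x = x ^ p ^ m := by
  haveI : CharP K p := (RingHom.charP_iff ι (ι).injective p).1 inferInstance
  exact ⟨iterateFrobenius K p m, fun x => iterateFrobenius_def p m x⟩

lemma frob_card : ∃ τ : K →+* K, ∀ x, τ x = x ^ Fintype.card F := by
  obtain ⟨m, -, hm⟩ := FiniteField.card F p
  obtain ⟨τ, hτ⟩ := exists_frob (F := F) (p := p) (m := m)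
  exact ⟨τ, fun x => by rw [hτ, hm]⟩

lemma eigs_pow_card {n : ℕ} (A : Matrix (Fin n) (Fin n) F) :
    (eigs A).map (fun w => w ^ Fintype.card F) = eigs A := by
  obtain ⟨τ, hτ⟩ := frob_card (F := F) (p := p)
  have h : (eigs A).map τ = eigs A := by
    rw [eigs, ← (IsAlgClosed.splits _).roots_map τ]
    congr 1
    rw [← Matrix.charpoly_map]
    congr 1
    ext i j
    simp [hτ, pow_card_iota]
  simpa [funext hτ] using h

/-- Semisimple elements of the special linear group with given eigenvalues. -/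
lemma exists_sl {n : ℕ} {r : ℕ} (z : F) (M : Multiset K) (hn : Multiset.card M = n)
    (hM : ∀ w ∈ M, w ^ r = ι z) (hq : M.map (fun w => w ^ Fintype.card F) = M) (h1 : M.prod = 1) :
    ∃ x : Matrix.SpecialLinearGroup (Fin n) F, eigs (x : Matrix (Fin n) (Fin n) F) = M ∧
      (x : Matrix (Fin n) (Fin n) F) ^ r = z • 1 := by
  classical
  set fK : K[X] := (M.map fun w => X - C w).prod with hfK
  have hmon : fK.Monic := monic_multiset_prod_of_monic _ _ fun w _ => monic_X_sub_C w
  have hroots : fK.roots = M := roots_multiset_prod_X_sub_C M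
  have hlift : fK ∈ lifts (ι) := by
    obtain ⟨τ, hτ⟩ := frob_card (F := F) (p := p)
    rw [lifts_iff_coeff_lifts]
    intro i
    refine mem_range_of_pow ?_
    rw [← hτ, ← coeff_map]
    congr 1
    rw [hfK, Polynomial.map_multiset_prod, Multiset.map_map]
    conv_rhs => rw [← hq]
    rw [Multiset.map_map]
    refine congrArg _ (Multiset.map_congr rfl fun w _ => ?_)
    simp [hτ]
  obtain ⟨f, hf, hfd, hfm⟩ := lifts_and_natDegree_eq_and_monic hlift hmon
  have hdeg : f.natDegree = n := by rw [hfd, hfK, natDegree_multiset_prod_X_sub_C_eq_card, hn]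
  have hc0 : f.coeff 0 ≠ 0 := by
    intro h
    have h2 : fK.coeff 0 = 0 := by rw [← hf, coeff_map, h, map_zero]
    rw [(IsAlgClosed.splits fK).coeff_zero_eq_prod_roots_of_monic hmon, hroots, h1, mul_one] at h2
    exact pow_ne_zero _ (neg_ne_zero.2 one_ne_zero) h2
  obtain ⟨A, hA, ⟨o, ho, hAo⟩, -⟩ := Cfsg.Agent.Lib.Semisimple.exists_model (p := p) n f hdeg hfm hc0
  have heig : eigs A = M := by rw [eigs, Matrix.charpoly_map, hA, hf, hroots]
  have hdet : A.det = 1 := (ι).injective (by rw [map_one, ← eigs_prod, heig, h1])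
  have hdvd : A.charpoly ∣ (X ^ r - C z) ^ n := by
    rw [← Polynomial.map_dvd_map (ι) (ι).injective A.charpoly_monic, hA, hf, Polynomial.map_pow,
      hfK, ← hn, ← Multiset.prod_replicate, ← Multiset.map_const']
    refine Multiset.prod_dvd_prod_of_dvd _ _ fun w hw => ?_
    rw [dvd_iff_isRoot]
    simp [hM w hw]
  have hsq : Squarefree (minpoly F A) := by
    have h := Cfsg.Agent.Lib.Semisimple.squarefree_pow_sub_one (F := F)
      (Cfsg.Agent.Lib.Semisimple.natCast_ne_zero_of_coprime (p := p) ho)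
    exact h.squarefree_of_dvd (minpoly.dvd F A (by simp [hAo]))
  have hmin : minpoly F A ∣ X ^ r - C z :=
    hsq.isRadical n _ ((Matrix.minpoly_dvd_charpoly A).trans hdvd)
  refine ⟨⟨A, hdet⟩, heig, ?_⟩
  obtain ⟨g, hg⟩ := hmin
  have h := congrArg (aeval A) hg
  rw [map_mul, minpoly.aeval, zero_mul, map_sub, map_pow, aeval_X, aeval_C, sub_eq_zero] at h
  show A ^ r = _
  rw [h, Algebra.algebraMap_eq_smul_one]

/-- the criterion: necessity -/
lemma conj_imp {n : ℕ} (F₀ : Subfield F) (q₀ : ℕ) (hq₀ : Nat.card F₀ = q₀) (A : Matrix (Fin n) (Fin n) F)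
    (h : ∃ (P : GL (Fin n) F) (g₀ : GL (Fin n) F₀) (c : Fˣ), (P : Matrix (Fin n) (Fin n) F) * A *
      ((P⁻¹ : GL (Fin n) F) : Matrix (Fin n) (Fin n) F) = (c : F) • (g₀ : Matrix (Fin n) (Fin n) F₀).map F₀.subtype) :
    ∃ c : F, c ≠ 0 ∧ (eigs A).map (fun w => w ^ q₀) = (eigs A).map fun w => ι c * w := by
  classical
  haveI : Fintype F₀ := Fintype.ofFinite _
  haveI : CharP F₀ p := (RingHom.charP_iff F₀.subtype F₀.subtype_injective p).2 inferInstance
  obtain ⟨P, g₀, c, hc⟩ := h
  obtain ⟨m, -, hm⟩ := FiniteField.card F₀ p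
  obtain ⟨σ, hσ⟩ := exists_frob (F := F) (p := p) (m := m)
  have hq : q₀ = p ^ (m : ℕ) := by rw [← hq₀, Nat.card_eq_fintype_card, hm]
  set B := (g₀ : Matrix (Fin n) (Fin n) F₀).map F₀.subtype with hB
  have h1 : eigs A = (eigs B).map fun w => ι c * w := by
    rw [← eigs_smul B c.ne_zero, ← hc, eigs_conj]
  have h2 : (eigs B).map σ = eigs B := by
    rw [eigs, ← (IsAlgClosed.splits _).roots_map σ]
    congr 1
    rw [← Matrix.charpoly_map]
    congr 1
    ext i j
    simp only [hB, Matrix.map_apply, hσ, ← hq, ← map_pow]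
    congr 1
    have := congrArg F₀.subtype (FiniteField.pow_card ((g₀ : Matrix (Fin n) (Fin n) F₀) i j))
    rwa [map_pow, ← Nat.card_eq_fintype_card, hq₀] at this
  refine ⟨(c : F) ^ q₀ / c, div_ne_zero (pow_ne_zero _ c.ne_zero) c.ne_zero, ?_⟩
  have hc' : ι (c : F) ≠ 0 := by simp
  rw [h1, Multiset.map_map, Multiset.map_map]
  conv_rhs => rw [← h2]
  rw [Multiset.map_map]
  refine Multiset.map_congr rfl fun w _ => ?_
  simp only [Function.comp_apply, map_div₀, map_pow, hσ, ← hq, mul_pow]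
  field_simp

/-- the criterion: sufficiency -/
lemma conj_of {n : ℕ} (hn : 1 ≤ n) (F₀ : Subfield F) (q₀ : ℕ) (hq₀ : Nat.card F₀ = q₀)
    (x : Matrix.SpecialLinearGroup (Fin n) F) {r : ℕ} (hr : r.Coprime p) {z : F} (hz0 : z ≠ 0)
    (hx : (x : Matrix (Fin n) (Fin n) F) ^ r = z • 1) {c : F} (hc : c ≠ 0)
    (hinv : (eigs (x : Matrix (Fin n) (Fin n) F)).map (fun w => ((ι c)⁻¹ * w) ^ q₀) =
      (eigs (x : Matrix (Fin n) (Fin n) F)).map fun w => (ι c)⁻¹ * w) :
    ∃ P : Matrix.SpecialLinearGroup (Fin n) F, ∃ B : Matrix (Fin n) (Fin n) F, (∀ i j, B i j ∈ F₀) ∧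
      ((P⁻¹ * x * P : Matrix.SpecialLinearGroup (Fin n) F) : Matrix (Fin n) (Fin n) F) = c • B := by
  classical
  haveI : Fintype F₀ := Fintype.ofFinite _
  haveI : CharP F₀ p := (RingHom.charP_iff F₀.subtype F₀.subtype_injective p).2 inferInstance
  obtain ⟨m, -, hm⟩ := FiniteField.card F₀ p
  obtain ⟨σ, hσ⟩ := exists_frob (F := F) (p := p) (m := m)
  have hq : q₀ = p ^ (m : ℕ) := by rw [← hq₀, Nat.card_eq_fintype_card, hm]
  set y := c⁻¹ • (x : Matrix (Fin n) (Fin n) F) with hy
  have hey : (eigs y).map σ = eigs y := by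
    rw [hy, eigs_smul _ (inv_ne_zero hc), Multiset.map_map]
    rw [map_inv₀]
    refine Eq.trans (Multiset.map_congr rfl fun w _ => ?_) hinv
    simp only [Function.comp_apply, hσ, ← hq]
  have hlift : y.charpoly ∈ lifts F₀.subtype := by
    rw [lifts_iff_coeff_lifts]
    intro i
    refine ⟨⟨y.charpoly.coeff i, Cfsg.Agent.Lib.SL2.mem_subfield_of_pow ?_⟩, rfl⟩
    refine (ι).injective ?_
    rw [map_pow, ← Nat.card_eq_fintype_card, hq₀, ← coeff_map, hq, ← hσ, ← coeff_map]
    congr 1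
    rw [charpoly_eigs, Polynomial.map_multiset_prod, Multiset.map_map]
    conv_rhs => rw [← hey, Multiset.map_map]
    refine congrArg _ (Multiset.map_congr rfl fun w _ => ?_)
    simp
  obtain ⟨f₀, hf₀, hf₀d, hf₀m⟩ := lifts_and_natDegree_eq_and_monic hlift y.charpoly_monic
  have hydet : y.det ≠ 0 := by
    rw [hy, Matrix.det_smul, x.2, mul_one]
    exact pow_ne_zero _ (inv_ne_zero hc)
  have hf00 : f₀.coeff 0 ≠ 0 := by
    intro h
    refine hydet ?_
    rw [Matrix.det_eq_sign_charpoly_coeff, ← hf₀, coeff_map, h, map_zero, mul_zero]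
  obtain ⟨B₀, hB₀, ⟨o, ho, hBo⟩, -⟩ := Cfsg.Agent.Lib.Semisimple.exists_model (p := p) n f₀
    (by rw [hf₀d, Matrix.charpoly_natDegree_eq_dim, Fintype.card_fin]) hf₀m hf00
  set B := B₀.map F₀.subtype with hB
  have hBo' : B ^ o = 1 := by
    rw [hB, show B₀.map F₀.subtype = F₀.subtype.mapMatrix B₀ from rfl, ← map_pow, hBo, map_one]
  have hyo : y ^ (r * (Fintype.card F - 1)) = 1 := by
    rw [pow_mul, hy, _root_.smul_pow, hx, smul_smul, _root_.smul_pow, one_pow,
      FiniteField.pow_card_sub_one_eq_one _ (mul_ne_zero (pow_ne_zero _ (inv_ne_zero hc)) hz0), one_smul]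
  have hco : (r * (Fintype.card F - 1)).Coprime p := by
    refine hr.mul_left ?_
    obtain ⟨e, hp, he⟩ := FiniteField.card F p
    rw [he, ← pow_one (p ^ (e : ℕ))]
    exact Cfsg.Agent.Lib.Semisimple.coprime_card_pow_sub_one hp (dvd_pow_self p e.ne_zero) le_rfl
      (he ▸ Fintype.one_lt_card)
  obtain ⟨Q, hQ⟩ := Cfsg.Agent.Lib.Semisimple.isConj_of_charpoly_coprime y B hco hyo ho hBo'
    (by rw [hB, Matrix.charpoly_map, hB₀, hf₀])
  obtain ⟨D, hD, hDd⟩ := Cfsg.Agent.Lib.Semisimple.exists_commute_det hn y hco hyo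
    (Units.map (Matrix.detMonoidHom (n := Fin n) (R := F)) Q⁻¹)
  set R := (Q : Matrix (Fin n) (Fin n) F) * D with hR
  have hRd : R.det = 1 := by
    rw [hR, Matrix.det_mul, hDd]
    show (Q : Matrix (Fin n) (Fin n) F).det * ((Q⁻¹ : GL (Fin n) F) : Matrix (Fin n) (Fin n) F).det = 1
    rw [← Matrix.det_mul, Units.mul_inv, Matrix.det_one]
  let S : Matrix.SpecialLinearGroup (Fin n) F := ⟨R, hRd⟩
  refine ⟨S⁻¹, B, fun i j => (B₀ i j).2, ?_⟩
  rw [inv_inv, Matrix.SpecialLinearGroup.coe_mul, Matrix.SpecialLinearGroup.coe_mul]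
  have hxy : (x : Matrix (Fin n) (Fin n) F) = c • y := by rw [hy, smul_smul, mul_inv_cancel₀ hc, one_smul]
  show R * (x : Matrix (Fin n) (Fin n) F) * (S⁻¹).1 = c • B
  have hcomm : R * y = B * R := by rw [hR, mul_assoc, hD.eq, ← mul_assoc, hQ.eq, mul_assoc]
  rw [hxy, mul_smul_comm, smul_mul_assoc, hcomm, mul_assoc]
  congr 1
  show B * (S.1 * (S⁻¹).1) = B
  rw [← Matrix.SpecialLinearGroup.coe_mul, mul_inv_cancel, Matrix.SpecialLinearGroup.coe_one, mul_one]

end Cfsg.Agent.Lib.SubfieldElem
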